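import Cfsg.Agent.Lib.SU.UnitalModel
import Cfsg.Prelude

/-!
# The unital groups are Suzuki 2-groups
-/

set_option autoImplicit false
set_option linter.style.haveILetI false

namespace CfsgLib.Lie.RankOne

open CfsgLib.SU CfsgLib.SU.HermAut

variable {T : Type*} [Group T] {F : Type*} [Field F] [CharP F 2] (U : Unital T F)

theorem exists_scale (c : {k : F // U.bar k = k ∧ k ≠ 0}) :
    ∃ α : MulAut T, ∀ x, U.pi (α x) = (c : F) * U.pi x ∧ U.tau (α x) = (c : F) * c * U.tau x := by
  have key : ∀ (k : F), U.bar k = k → ∀ x, ∃ y, U.pi y = k * U.pi x ∧ U.tau y = k * k * U.tau x := by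
    intro k hk x
    refine U.exists_coord _ _ ?_
    have h := U.cond x
    simp only [nm] at h ⊢
    rw [map_mul, map_mul, map_mul, hk]
    linear_combination (k * k) * h
  choose f hf1 hf2 using key (c : F) c.2.1
  choose g hg1 hg2 using key ((c : F)⁻¹) (by rw [map_inv₀, c.2.1])
  refine ⟨{ toFun := f, invFun := g, left_inv := fun x => ?_, right_inv := fun x => ?_, map_mul' := fun x y => ?_ },
    fun x => ⟨hf1 x, hf2 x⟩⟩
  · exact U.coord_ext _ _ (by rw [hg1, hf1, inv_mul_cancel_left₀ c.2.2])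
      (by rw [hg2, hf2]; field_simp [c.2.2])
  · exact U.coord_ext _ _ (by rw [hf1, hg1, mul_inv_cancel_left₀ c.2.2])
      (by rw [hf2, hg2]; field_simp [c.2.2])
  · refine U.coord_ext _ _ (by rw [hf1, U.pi_mul, U.pi_mul, hf1, hf1, mul_add]) ?_
    rw [hf2, U.tau_mul, U.tau_mul, hf2, hf2, hf1, hf1, map_mul, c.2.1]
    ring

include U in
theorem isSuzukiTwoGroup [Finite F] [Finite T] {n : ℕ} (hn : 2 ≤ n)
    (hF : Nat.card F = (2 ^ n) ^ 2) : Cfsg.IsSuzukiTwoGroup T := by
  classical
  haveI : Fact (Nat.Prime 2) := ⟨Nat.prime_two⟩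
  have hT := U.card_eq hF
  have hZ := U.card_center_eq hF
  have hnc : ∃ x y : T, x * y ≠ y * x := by
    obtain ⟨x, hx⟩ := U.exists_pi 1
    by_contra h
    simp only [not_exists, not_not] at h
    exact one_ne_zero (hx ▸ U.mem_center_iff.1 (Subgroup.mem_center_iff.2 fun y => (h x y).symm))
  refine ⟨inferInstance, IsPGroup.of_card (n := n * 3) (by rw [hT, ← pow_mul]), hnc, ?_, ?_⟩
  · have hcZ : 3 < Nat.card (Subgroup.center T) := by
      rw [hZ]; calc 3 < 2 ^ 2 := by norm_num
        _ ≤ 2 ^ n := Nat.pow_le_pow_right (by norm_num) hn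
    haveI := Fintype.ofFinite ↥(Subgroup.center T)
    rw [Nat.card_eq_fintype_card] at hcZ
    obtain ⟨a, ha⟩ := Fintype.exists_ne_of_one_lt_card (by omega) (1 : ↥(Subgroup.center T))
    have hc' : 1 < (Finset.univ.erase a).card := by
      rw [Finset.card_erase_of_mem (Finset.mem_univ a), Finset.card_univ]; omega
    obtain ⟨b, hb, hb1⟩ := Finset.exists_mem_ne hc' 1
    exact ⟨a, b, fun h => (Finset.ne_of_mem_erase hb) (Subtype.ext h).symm,
      fun h => ha (Subtype.ext h), U.mul_self_eq_one_iff.2 (U.mem_center_iff.1 a.2),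
      fun h => hb1 (Subtype.ext h), U.mul_self_eq_one_iff.2 (U.mem_center_iff.1 b.2)⟩
  · let S : Subgroup Fˣ :=
      { carrier := {k | U.bar (k : F) = k}
        mul_mem' := fun {a b} (ha : U.bar (a : F) = a) (hb : U.bar (b : F) = b) => by
          show U.bar ((a * b : Fˣ) : F) = _
          rw [Units.val_mul, map_mul, ha, hb]
        one_mem' := by simp
        inv_mem' := fun {a} (ha : U.bar (a : F) = a) => by
          show U.bar ((a⁻¹ : Fˣ) : F) = _
          rw [Units.val_inv_eq_inv_val, map_inv₀, ha] }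
    choose α hα using fun s : S => exists_scale U ⟨((s : Fˣ) : F), s.2, Units.ne_zero _⟩
    have hmul : ∀ s t, α (s * t) = α s * α t := fun s t => MulEquiv.ext fun x => by
      refine U.coord_ext _ _ ?_ ?_
      · rw [MulAut.mul_apply, (hα _ _).1, (hα _ _).1, (hα _ _).1]; simp [mul_assoc]
      · rw [MulAut.mul_apply, (hα _ _).2, (hα _ _).2, (hα _ _).2]; simp; ring
    let φ : S →* MulAut T := MonoidHom.mk' α hmul
    refine ⟨φ.range, isCyclic_of_surjective φ.rangeRestrict φ.rangeRestrict_surjective, fun x y hx1 hx hy1 hy => ?_⟩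
    have hx0 := U.mul_self_eq_one_iff.1 hx
    have hy0 := U.mul_self_eq_one_iff.1 hy
    have htx : U.tau x ≠ 0 := fun h => hx1 (U.coord_ext _ _ (by rw [hx0, U.pi_one]) (by rw [h, U.tau_one]))
    have hty : U.tau y ≠ 0 := fun h => hy1 (U.coord_ext _ _ (by rw [hy0, U.pi_one]) (by rw [h, U.tau_one]))
    obtain ⟨r, hr⟩ := (bijective_frobenius F 2).2 (U.tau y / U.tau x)
    rw [frobenius_def, sq] at hr
    have hr0 : r ≠ 0 := by
      intro h; rw [h, mul_zero, eq_comm, div_eq_zero_iff] at hr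
      exact hr.elim hty htx
    have hrb : U.bar r = r := by
      refine (bijective_frobenius F 2).1 ?_
      rw [frobenius_def, frobenius_def, sq, sq, ← map_mul, hr, map_div₀, U.tau_fixed hx0, U.tau_fixed hy0]
    refine ⟨⟨φ ⟨Units.mk0 r hr0, hrb⟩, _, rfl⟩, U.coord_ext _ _ ?_ ?_, ?_⟩
    · show U.pi (α _ x) = _
      rw [(hα _ _).1, hx0, hy0, mul_zero]
    · show U.tau (α _ x) = _
      rw [(hα _ _).2]
      show r * r * _ = _
      rw [hr, div_mul_cancel₀ _ htx]
    · rintro ⟨_, s, rfl⟩ hk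
      have h2 := (hα s x).2
      rw [show α s x = y from hk] at h2
      have hsr : ((s : Fˣ) : F) = r := by
        refine (bijective_frobenius F 2).1 ?_
        rw [frobenius_def, frobenius_def, sq, sq, hr, h2, mul_div_assoc, div_self htx, mul_one]
      refine Subtype.ext (congrArg φ (Subtype.ext (Units.ext ?_)))
      exact hsr

end CfsgLib.Lie.RankOne
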