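import Cfsg.Agent.Lib.RootSub.Setup2
import Cfsg.Agent.Lib.PGroup.FixedPointFree
import Cfsg.Agent.Lib.Coprime.Solvable

/-!
# Groups of rank one: inverted elements, nilpotency and centrality of involutions
-/

set_option autoImplicit false
set_option linter.style.haveILetI false
set_option linter.unusedSectionVars false

namespace CfsgLib.Lie.RankOne

open MulAction CfsgLib.RootSub.Setup

universe u

variable {G : Type u} {Ω : Type*} [Group G] [Finite G] [MulAction G Ω] {a : Ω} {t : G} {Q : Subgroup G}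
variable (hS : Cfsg.IsRankOneSetup G Ω a t Q)
include hS

local notation "D" => (stabilizer G a ⊓ stabilizer G (t • a))
local notation "I" => Cfsg.involutionsIn (stabilizer G a : Set G)
local notation "J" => Cfsg.invertedBy (stabilizer G a ⊓ stabilizer G (t • a)) t

/-- An element of `D` inverted by an element exchanging `a`, `t • a` and centralizing a non-trivial
element of `Q` is trivial. -/
theorem eq_one_of_inverted_fixed {x u : G} (hx : x ∈ D) (hua : u • a = t • a) (hub : u • (t • a) = a)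
    (hinv : u * x * u⁻¹ = x⁻¹) {q : G} (hq : q ∈ Q) (hq1 : q ≠ 1) (hc : q * x = x * q) : x = 1 := by
  have hxa := mem_stabilizer_iff.1 (Subgroup.mem_inf.1 hx).1
  have hxb := mem_stabilizer_iff.1 (Subgroup.mem_inf.1 hx).2
  have hqa : q • (t • a) ≠ a := fun e => ta_ne hS (smul_left_cancel q (e.trans (fix_a hS hq).symm))
  have hqb : q • (t • a) ≠ t • a := fun e => hq1 (eq_one_of_fix hS hq (ta_ne hS) e)
  obtain ⟨u0, hu0, hu00, hu0a, hu0b⟩ := exists_swap hS (X := {x}) (by simpa using hx)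
    ⟨a, t • a, q • (t • a), (ta_ne hS).symm, hqa.symm, hqb.symm, fun y hy => by
      rw [Set.mem_singleton_iff] at hy
      subst hy
      exact ⟨hxa, hxb, by rw [← mul_smul, ← hc, mul_smul, hxb]⟩⟩
  set e := u * u0 with he
  have heD : e ∈ D := Subgroup.mem_inf.2 ⟨mem_stabilizer_iff.2 (by rw [he, mul_smul, hu0a, hub]),
    mem_stabilizer_iff.2 (by rw [he, mul_smul, hu0b, hua])⟩
  have h1 : e * x = x⁻¹ * e := by
    rw [← hinv, he, mul_assoc u u0 x, ← Subgroup.mem_centralizer_singleton_iff.1 hu0 |>.symm]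
    group
  have hconj : e * x * e⁻¹ = x⁻¹ := by rw [h1, mul_inv_cancel_right]
  have h2 : Commute (e * e) x := by
    refine mul_inv_eq_iff_eq_mul.1 ?_
    calc e * e * x * (e * e)⁻¹ = e * (e * x * e⁻¹) * e⁻¹ := by group
      _ = (e * x * e⁻¹)⁻¹ := by rw [hconj, ← conj_inv]; rw [hconj]
      _ = x := by rw [hconj, inv_inv]
  obtain ⟨m, hm⟩ := hS.odd_card
  have h3 : (e * e) ^ (m + 1) = e := by
    rw [← pow_two, ← pow_mul, show 2 * (m + 1) = Nat.card ↥D + 1 by omega, pow_succ,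
      orderOf_dvd_iff_pow_eq_one.1 (Subgroup.orderOf_dvd_natCard _ heD), one_mul]
  have h4 : Commute e x := by rw [← h3]; exact h2.pow_left _
  have h5 : x⁻¹ = x := by rw [← hconj, h4.eq, mul_inv_cancel_right]
  refine sq_injective hS hx (one_mem _) ?_
  rw [mul_one]
  nth_rewrite 1 [← h5]
  exact inv_mul_cancel x

/-- A non-trivial element of `D` inverted by `t` is fixed-point-free on `Q`. -/
theorem inverted_fpf {x : G} (hx : x ∈ J) (hx1 : x ≠ 1) {q : G} (hq : q ∈ Q) (hc : q * x = x * q) : q = 1 :=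
  by_contra fun hq1 => hx1 (eq_one_of_inverted_fixed hS hx.1 rfl (t_t hS a) hx.2 hq hq1 hc)

theorem inverted_pow {x : G} (hx : x ∈ J) (n : ℕ) : x ^ n ∈ J :=
  ⟨pow_mem hx.1 _, by rw [← conj_pow, hx.2, inv_pow]⟩

theorem smul_fixed {u v : G} {p : Ω} (h : ∀ c, u • c = c → c = p) (hp : u • p = p) (hc : u * v = v * u) :
    v • p = p := h _ (by rw [← mul_smul, hc, mul_smul, hp])

theorem exists_smul_a (p : Ω) : ∃ g : G, g • p = a := by
  haveI := hS.two_transitive
  haveI : IsPretransitive G Ω := isPretransitive_of_is_two_pretransitive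
  exact exists_smul_eq G p a

theorem conj_mem_I {g x : G} {p : Ω} (hg : g • p = a) (hx1 : x ≠ 1) (hx2 : x * x = 1) (hp : x • p = p) :
    g * x * g⁻¹ ∈ I :=
  ⟨mem_stabilizer_iff.2 (by rw [mul_smul, mul_smul, inv_smul_eq_iff.2 hg.symm, hp, hg]),
    fun e => hx1 (conj_eq_one_iff.1 e),
    by rw [show g * x * g⁻¹ * (g * x * g⁻¹) = g * (x * x) * g⁻¹ by group, hx2, mul_one, mul_inv_cancel]⟩

/-- With two commuting involutions, some inverted element of `D` is non-trivial. -/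
theorem exists_inverted (h2 : ∃ x y : G, x ≠ 1 ∧ y ≠ 1 ∧ x ≠ y ∧ x * x = 1 ∧ y * y = 1 ∧ x * y = y * x) :
    ∃ k ∈ J, k ≠ 1 := by
  obtain ⟨x, y, hx, hy, hxy, hxx, hyy, hc⟩ := h2
  obtain ⟨p, hp, hu⟩ := exists_fixed hS hx hxx
  obtain ⟨g, hg⟩ := exists_smul_a hS p
  have hs := conj_mem_I hS hg hx hxx hp
  have hs' := conj_mem_I hS hg hy hyy (smul_fixed hS hu hp hc)
  obtain ⟨k, hk⟩ := (conj_bijective hS hs).2 ⟨_, hs'⟩
  refine ⟨k, k.2, fun e => hxy ?_⟩
  have h := congrArg Subtype.val hk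
  simp only [e, inv_one, one_mul, mul_one] at h
  exact mul_left_cancel (mul_right_cancel h)

/-- `Q` is nilpotent. -/
theorem nilpotent (h2 : ∃ x y : G, x ≠ 1 ∧ y ≠ 1 ∧ x ≠ y ∧ x * x = 1 ∧ y * y = 1 ∧ x * y = y * x) :
    Group.IsNilpotent Q := by
  obtain ⟨k, hk, hk1⟩ := exists_inverted hS h2
  obtain ⟨p, hp, hdvd⟩ := Nat.exists_prime_and_dvd (fun h : orderOf k = 1 => hk1 (orderOf_eq_one_iff.1 h))
  obtain ⟨c, hc⟩ := hdvd
  set x := k ^ c with hx
  have hxo : x ^ p = 1 := by rw [hx, ← pow_mul, mul_comm, ← hc, pow_orderOf_eq_one]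
  have hx1 : x ≠ 1 := by
    have h0 := orderOf_pos k
    rw [hc] at h0
    refine pow_ne_one_of_lt_orderOf (fun e => by subst e; simp at h0) ?_
    rw [hc]
    exact lt_mul_of_one_lt_left (Nat.pos_of_mul_pos_left h0) hp.one_lt
  have hxJ : x ∈ J := inverted_pow hS hk c
  let φ : Q ≃* Q :=
    { toFun := fun q => ⟨x * q * x⁻¹, (Q_normalized hS hxJ.1 q.2).1⟩
      invFun := fun q => ⟨x⁻¹ * q * x, (Q_normalized hS hxJ.1 q.2).2⟩
      left_inv := fun q => Subtype.ext (show x⁻¹ * (x * (q : G) * x⁻¹) * x = q by group)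
      right_inv := fun q => Subtype.ext (show x * (x⁻¹ * (q : G) * x) * x⁻¹ = q by group)
      map_mul' := fun q q' => Subtype.ext
        (show x * ((q : G) * q') * x⁻¹ = x * q * x⁻¹ * (x * q' * x⁻¹) by group) }
  refine CfsgLib.PGroup.isNilpotent_of_fixedPointFree hp Q φ (fun q hq => Subtype.ext ?_) (fun q => Subtype.ext ?_)
  · have h : x * (q : G) * x⁻¹ = q := congrArg Subtype.val hq
    exact inverted_fpf hS hxJ hx1 q.2 (mul_inv_eq_iff_eq_mul.1 h).symm
  · have h : ∀ j : ℕ, ((φ^[j] q : Q) : G) = x ^ j * q * (x ^ j)⁻¹ := by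
      intro j
      induction j with
      | zero => simp
      | succ j ih =>
        rw [Function.iterate_succ_apply']
        show x * ((φ^[j] q : Q) : G) * x⁻¹ = _
        rw [ih, pow_succ']
        group
    rw [h, hxo, one_mul, inv_one, mul_one]

/-- Involutions of `G_a` are central in `Q`. -/
theorem involution_central (h2 : ∃ x y : G, x ≠ 1 ∧ y ≠ 1 ∧ x ≠ y ∧ x * x = 1 ∧ y * y = 1 ∧ x * y = y * x)
    {s : G} (hs : s ∈ I) {y : G} (hy : y ∈ Q) : s * y = y * s := by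
  haveI := nilpotent hS h2
  haveI : Fact (Nat.Prime 2) := ⟨Nat.prime_two⟩
  obtain ⟨P⟩ : Nonempty (Sylow 2 Q) := inferInstance
  haveI : (P : Subgroup Q).Normal :=
    Sylow.normal_of_normalizerCondition Group.normalizerCondition_of_isNilpotent P
  have hPne : (P : Subgroup Q) ≠ ⊥ := P.ne_bot_of_dvd_card (even_iff_two_dvd.1 hS.even_card)
  have hne := CfsgLib.Coprime.nilpotent_inf_center_ne_bot (P : Subgroup Q) hPne
  obtain ⟨z, hz, hz1⟩ := (Subgroup.bot_or_exists_ne_one _).resolve_left hne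
  obtain ⟨n, hn⟩ := P.2 ⟨z, (Subgroup.mem_inf.1 hz).1⟩
  have hzn : z ^ 2 ^ n = 1 := congrArg Subtype.val hn
  obtain ⟨j, hj, hjo⟩ := (Nat.dvd_prime_pow Nat.prime_two).1 (orderOf_dvd_of_pow_eq_one hzn)
  rcases j with _ | j
  · exact absurd (orderOf_eq_one_iff.1 (by simpa using hjo)) hz1
  set w := z ^ 2 ^ j with hw
  have hwc : w ∈ Subgroup.center Q := pow_mem (Subgroup.mem_inf.1 hz).2 _
  have hw2 : w * w = 1 := by rw [hw, ← pow_add, ← two_mul, ← pow_succ', ← hjo, pow_orderOf_eq_one]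
  have hw1 : w ≠ 1 := pow_ne_one_of_lt_orderOf (by positivity) (by rw [hjo]; exact Nat.pow_lt_pow_right one_lt_two (Nat.lt_succ_self j))
  have hwI : (w : G) ∈ I := ⟨hS.le w.2, fun e => hw1 (Subtype.ext e), congrArg Subtype.val hw2⟩
  obtain ⟨k, hk⟩ := (conj_bijective hS hwI).2 ⟨s, hs⟩
  have hk' : (k : G)⁻¹ * w * k = s := congrArg Subtype.val hk
  have h1 : (k : G) * y * (k : G)⁻¹ * w = w * ((k : G) * y * (k : G)⁻¹) :=
    congrArg Subtype.val (Subgroup.mem_center_iff.1 hwc ⟨_, (Q_normalized hS k.2.1 hy).1⟩)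
  rw [← hk']
  calc (k : G)⁻¹ * w * k * y = (k : G)⁻¹ * (w * ((k : G) * y * (k : G)⁻¹)) * k := by group
    _ = (k : G)⁻¹ * ((k : G) * y * (k : G)⁻¹ * w) * k := by rw [h1]
    _ = y * ((k : G)⁻¹ * w * k) := by group

/-- Two involutions with a common fixed point commute. -/
theorem commute_of_fixed (h2 : ∃ x y : G, x ≠ 1 ∧ y ≠ 1 ∧ x ≠ y ∧ x * x = 1 ∧ y * y = 1 ∧ x * y = y * x)
    {u v : G} (hu : u ≠ 1) (hu2 : u * u = 1) (hv : v ≠ 1) (hv2 : v * v = 1) {p : Ω} (hp : u • p = p)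
    (hq : v • p = p) : u * v = v * u := by
  obtain ⟨g, hg⟩ := exists_smul_a hS p
  have h := involution_central hS h2 (conj_mem_I hS hg hu hu2 hp)
    (involution_mem_Q hS (conj_mem_I hS hg hv hv2 hq))
  have h' := congrArg (fun w => g⁻¹ * w * g) h
  simpa [mul_assoc] using h'

/-- A product of two involutions with square `≠ 1` is conjugate to some `u' t`. -/
theorem exists_conj_ut (h2 : ∃ x y : G, x ≠ 1 ∧ y ≠ 1 ∧ x ≠ y ∧ x * x = 1 ∧ y * y = 1 ∧ x * y = y * x)
    {u v : G} (hu1 : u ≠ 1) (hu2 : u * u = 1) (hv1 : v ≠ 1) (hv2 : v * v = 1)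
    (hx : (u * v) * (u * v) ≠ 1) : ∃ g : G, ∃ u' ∈ I, g * (u * v) * g⁻¹ = u' * t := by
  obtain ⟨p, hp, -⟩ := exists_fixed hS hu1 hu2
  obtain ⟨g0, hg0⟩ := exists_smul_a hS p
  have hu := conj_mem_I hS hg0 hu1 hu2 hp
  set v1 := g0 * v * g0⁻¹ with hv
  have hv12 : v1 * v1 = 1 := by rw [hv, show g0 * v * g0⁻¹ * (g0 * v * g0⁻¹) = g0 * (v * v) * g0⁻¹ by group,
    hv2, mul_one, mul_inv_cancel]
  have hva : v1 ∉ stabilizer G a := by
    intro h
    refine hx ?_
    have hq : v • p = p := by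
      have h1 := congrArg (fun c => g0⁻¹ • c) (mem_stabilizer_iff.1 h)
      simpa [hv, mul_smul, inv_smul_eq_iff.2 hg0.symm] using h1
    rw [mul_assoc, ← mul_assoc v u v, ← commute_of_fixed hS h2 hu1 hu2 hv1 hv2 hp hq, mul_assoc u v v, hv2,
      mul_one, hu2]
  obtain ⟨h, hh, f, hf, e⟩ := involution_form hS hva hv12
  obtain ⟨l, hl, rfl⟩ := exists_sqrt hS hh
  have hlt : l⁻¹ * (l * l * t) * l = t := by
    calc l⁻¹ * (l * l * t) * l = l * (t * l * t) * (t * t)⁻¹ * t := by group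
      _ = t := by rw [inverted_conj hS hl, hS.mul_self, inv_one, mul_one, mul_inv_cancel, one_mul]
  have hgm : l⁻¹ * f ∈ stabilizer G a := mul_mem (inv_mem hl.1.1) (hS.le hf)
  refine ⟨l⁻¹ * f * g0, _, conj_involution hS hu (inv_mem hgm), ?_⟩
  calc l⁻¹ * f * g0 * (u * v) * (l⁻¹ * f * g0)⁻¹
      = (l⁻¹ * f)⁻¹⁻¹ * (g0 * u * g0⁻¹) * (l⁻¹ * f)⁻¹ * (l⁻¹ * f * v1 * f⁻¹ * l) := by rw [hv]; group
    _ = _ := by
      congr 1
      rw [e]
      calc l⁻¹ * f * (f⁻¹ * (l * l) * t * f) * f⁻¹ * l = l⁻¹ * (l * l * t) * l := by group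
        _ = t := hlt

/-- The centralizer of such a product has odd order. -/
theorem odd_centralizer (h2 : ∃ x y : G, x ≠ 1 ∧ y ≠ 1 ∧ x ≠ y ∧ x * x = 1 ∧ y * y = 1 ∧ x * y = y * x)
    {u v : G} (hu1 : u ≠ 1) (hu2 : u * u = 1) (hv1 : v ≠ 1) (hv2 : v * v = 1)
    (hx : (u * v) * (u * v) ≠ 1) : Odd (Nat.card ↥(Subgroup.centralizer {u * v})) := by
  rw [← Nat.not_even_iff_odd]
  intro hev
  haveI : Fact (Nat.Prime 2) := ⟨Nat.prime_two⟩
  obtain ⟨⟨w, hwC⟩, hw⟩ := exists_prime_orderOf_dvd_card' 2 (even_iff_two_dvd.1 hev)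
  rw [← Subgroup.orderOf_coe] at hw
  have hw2 : w * w = 1 := by rw [← pow_two]; exact orderOf_dvd_iff_pow_eq_one.1 hw.dvd
  have hw1 : w ≠ 1 := fun e => by simp [e] at hw
  obtain ⟨p, hp, hpu⟩ := exists_fixed hS hw1 hw2
  set x := u * v with hxd
  have hxp : x • p = p := smul_fixed hS hpu hp (Subgroup.mem_centralizer_singleton_iff.1 hwC)
  have hui : u⁻¹ = u := inv_eq_of_mul_eq_one_right hu2
  have hinv : u * x * u⁻¹ = x⁻¹ := by
    rw [hxd, mul_inv_rev, hui, inv_eq_of_mul_eq_one_right hv2, ← mul_assoc, hu2, one_mul]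
  have hup : u • p ≠ p := by
    intro hup
    refine hx ?_
    have hvp : v • p = p := by
      have h1 : u • v • p = p := by rw [← mul_smul]; exact hxp
      exact smul_left_cancel u (h1.trans hup.symm)
    rw [hxd, mul_assoc, ← mul_assoc v u v, ← commute_of_fixed hS h2 hu1 hu2 hv1 hv2 hup hvp, mul_assoc u v v,
      hv2, mul_one, hu2]
  obtain ⟨g, hg1, hg2⟩ := is_two_pretransitive_iff.1 hS.two_transitive hup.symm (ta_ne hS).symm
  have hxq : x • (u • p) = u • p := by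
    have h1 : x * u = u * x⁻¹ := by
      rw [← hinv, hui, ← mul_assoc, ← mul_assoc, hu2, one_mul]
    rw [← mul_smul, h1, mul_smul, inv_smul_eq_iff.2 hxp.symm]
  have hga : g⁻¹ • a = p := inv_smul_eq_iff.2 hg1.symm
  have hgb : g⁻¹ • (t • a) = u • p := inv_smul_eq_iff.2 hg2.symm
  have hD : g * x * g⁻¹ ∈ D := Subgroup.mem_inf.2
    ⟨mem_stabilizer_iff.2 (by rw [mul_smul, mul_smul, hga, hxp, hg1]),
      mem_stabilizer_iff.2 (by rw [mul_smul, mul_smul, hgb, hxq, hg2])⟩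
  have hwI := conj_mem_I hS hg1 hw1 hw2 hp
  refine hx ?_
  have h := eq_one_of_inverted_fixed hS (x := g * x * g⁻¹) (u := g * u * g⁻¹) hD
    (by rw [mul_smul, mul_smul, hga, hg2])
    (by rw [mul_smul, mul_smul, hgb, ← mul_smul u u, hu2, one_smul, hg1])
    (by rw [show (g * x * g⁻¹)⁻¹ = g * x⁻¹ * g⁻¹ by group, ← hinv]; group)
    (involution_mem_Q hS hwI) hwI.2.1
    (by
      have h1 : w * x = x * w := Subgroup.mem_centralizer_singleton_iff.1 hwC
      calc g * w * g⁻¹ * (g * x * g⁻¹) = g * (w * x) * g⁻¹ := by group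
        _ = g * (x * w) * g⁻¹ := by rw [h1]
        _ = g * x * g⁻¹ * (g * w * g⁻¹) := by group)
  rw [conj_eq_one_iff.1 h, one_mul]

end CfsgLib.Lie.RankOne
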