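import Cfsg.Agent.Lib.Lie.RankOne.Fixed

/-!
# Groups of rank one: fusion in the centralizer of `t` in `D`
-/

set_option autoImplicit false
set_option linter.style.haveILetI false
set_option linter.unusedSectionVars false

namespace CfsgLib.Lie.RankOne

open MulAction CfsgLib.RootSub.Setup

universe u

variable {G : Type u} {Ω : Type*} [Group G] [Finite G] [MulAction G Ω] {a : Ω} {t : G} {Q : Subgroup G}
variable (hS : Cfsg.IsRankOneSetup G Ω a t Q)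
include hS

local notation "D" => (stabilizer G a ⊓ stabilizer G (t • a))

/-- Two transitivity of centralizers on fixed points, for subsets of `D` with three fixed points. -/
theorem centralizer_two_transitive {X : Set G} {b₁ b₂ c₁ c₂ p : Ω}
    (hb₁ : ∀ x ∈ X, x • b₁ = b₁) (hb₂ : ∀ x ∈ X, x • b₂ = b₂) (hc₁ : ∀ x ∈ X, x • c₁ = c₁)
    (hc₂ : ∀ x ∈ X, x • c₂ = c₂) (hp : ∀ x ∈ X, x • p = p) (hpb : p ≠ b₁) (hpc : p ≠ c₁)
    (hb : b₁ ≠ b₂) (hc : c₁ ≠ c₂) :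
    ∃ g ∈ Subgroup.centralizer X, g • b₁ = c₁ ∧ g • b₂ = c₂ := by
  obtain ⟨g1, hg1, -, hg1b, -⟩ := centralizer_transitive hS (b := p) hp hb₁ hc₁ hpb.symm hpc.symm
  have hne : g1 • b₂ ≠ c₁ := fun e => hb (smul_left_cancel g1 (hg1b.trans e.symm))
  have hfx : ∀ x ∈ X, x • (g1 • b₂) = g1 • b₂ := fun x hx => by
    rw [← mul_smul, Subgroup.mem_centralizer_iff.1 hg1 x hx, mul_smul, hb₂ x hx]
  obtain ⟨g2, hg2, hg2a, hg2b, -⟩ := centralizer_transitive hS (b := c₁) hc₁ hfx hc₂ hne hc.symm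
  exact ⟨g2 * g1, mul_mem hg2 hg1, by rw [mul_smul, hg1b, hg2a], by rw [mul_smul, hg2b]⟩

/-- Subsets of `C_D(t)` conjugate in `G` are conjugate in `C_D(t)`. -/
theorem fusion_in_fixed (X : Set G) (hX : X ⊆ ((D ⊓ Subgroup.centralizer {t} : Subgroup G) : Set G)) (g : G)
    (hY : (fun x => g * x * g⁻¹) '' X ⊆ ((D ⊓ Subgroup.centralizer {t} : Subgroup G) : Set G)) :
    ∃ v ∈ D ⊓ Subgroup.centralizer {t}, (fun x => v * x * v⁻¹) '' X = (fun x => g * x * g⁻¹) '' X := by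
  obtain ⟨p, hp, hpu⟩ := exists_fixed hS hS.ne_one hS.mul_self
  have hpa : p ≠ a := fun e => ta_ne hS (by rw [e] at hp; exact hp)
  have hpb : p ≠ t • a := fun e => ta_ne hS (by rw [e, t_t hS] at hp; exact hp.symm)
  have hmem : ∀ {z}, z ∈ D ⊓ Subgroup.centralizer {t} → z • a = a ∧ z • (t • a) = t • a ∧ z • p = p ∧
      t * z = z * t := fun {z} hz => by
    obtain ⟨h1, h2⟩ := Subgroup.mem_inf.1 hz
    obtain ⟨h3, h4⟩ := Subgroup.mem_inf.1 h1
    have h5 := Subgroup.mem_centralizer_iff.1 h2 t (Set.mem_singleton t)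
    exact ⟨mem_stabilizer_iff.1 h3, mem_stabilizer_iff.1 h4, smul_fixed hS hpu hp h5, h5⟩
  have hxa := fun x (hx : x ∈ X) => hmem (hX hx)
  have hya : ∀ x ∈ X, ∀ c : Ω, (g * x * g⁻¹) • c = c → x • (g⁻¹ • c) = g⁻¹ • c := fun x _ c hc => by
    rw [show x = g⁻¹ * (g * x * g⁻¹) * g by group, mul_smul, mul_smul, smul_inv_smul, hc]
  obtain ⟨q, hq1, hq2⟩ : ∃ q : Ω, (∀ x ∈ X, x • q = q) ∧ q ≠ a ∧ q ≠ g⁻¹ • a := by
    by_cases h : g⁻¹ • a = p
    · exact ⟨t • a, fun x hx => (hxa x hx).2.1, ta_ne hS, fun e => hpb (h ▸ e.symm)⟩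
    · exact ⟨p, fun x hx => (hxa x hx).2.2.1, hpa, fun e => h e.symm⟩
  obtain ⟨c, hc, hca, hcb⟩ := centralizer_two_transitive hS (X := X) (b₁ := a) (b₂ := t • a)
    (c₁ := g⁻¹ • a) (c₂ := g⁻¹ • (t • a)) (p := q)
    (fun x hx => (hxa x hx).1) (fun x hx => (hxa x hx).2.1)
    (fun x hx => hya x hx a (hmem (hY ⟨x, hx, rfl⟩)).1)
    (fun x hx => hya x hx _ (hmem (hY ⟨x, hx, rfl⟩)).2.1)
    hq1 hq2.1 hq2.2 (ta_ne hS).symm (fun e => ta_ne hS (smul_left_cancel _ e).symm)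
  set d := g * c with hd
  have hdD : d ∈ D := Subgroup.mem_inf.2 ⟨mem_stabilizer_iff.2 (by rw [hd, mul_smul, hca, smul_inv_smul]),
    mem_stabilizer_iff.2 (by rw [hd, mul_smul, hcb, smul_inv_smul])⟩
  have hdx : ∀ x ∈ X, d * x * d⁻¹ = g * x * g⁻¹ := fun x hx => by
    have h1 : x * c = c * x := Subgroup.mem_centralizer_iff.1 hc x hx
    calc d * x * d⁻¹ = g * (c * x) * c⁻¹ * g⁻¹ := by rw [hd]; group
      _ = g * x * g⁻¹ := by rw [← h1]; group
  set w := d⁻¹ * (t * d * t) with hw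
  have hwD : w ∈ D := mul_mem (inv_mem hdD) (conj_t_mem_D hS hdD)
  have hwx : ∀ x ∈ X, Commute w x := fun x hx => by
    have htx : t * x = x * t := (hxa x hx).2.2.2
    have hty : t * (d * x * d⁻¹) = d * x * d⁻¹ * t := by
      rw [hdx x hx]; exact (hmem (hY ⟨x, hx, rfl⟩)).2.2.2
    refine mul_inv_eq_iff_eq_mul.1 ?_
    calc w * x * w⁻¹ = d⁻¹ * (t * d * (t * x) * t⁻¹ * d⁻¹ * t⁻¹) * d := by rw [hw]; group
      _ = d⁻¹ * (t * (d * x * d⁻¹) * t⁻¹) * d := by rw [htx]; group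
      _ = x := by rw [hty]; group
  have hwt : t * w * t = w⁻¹ := by
    calc t * w * t = t * d⁻¹ * t * d * (t * t) := by rw [hw]; group
      _ = t⁻¹ * d⁻¹ * t⁻¹ * d := by rw [hS.mul_self, t_inv hS, mul_one]
      _ = w⁻¹ := by rw [hw]; group
  obtain ⟨m, hm⟩ := hS.odd_card
  set k := w ^ (m + 1) with hk
  have hkk : k * k = w := by
    rw [hk, ← pow_add, show m + 1 + (m + 1) = Nat.card ↥D + 1 by omega, pow_succ,
      orderOf_dvd_iff_pow_eq_one.1 (Subgroup.orderOf_dvd_natCard _ hwD), one_mul]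
  have hkt : t * k * t = k⁻¹ := by
    have h1 : t * k * t⁻¹ = (t * w * t⁻¹) ^ (m + 1) := by rw [hk, conj_pow]
    rw [t_inv hS, hwt, inv_pow, ← hk] at h1
    exact h1
  have hvt : t * (d * k) = d * k * t := by
    refine mul_inv_eq_iff_eq_mul.1 ?_
    rw [t_inv hS]
    calc t * (d * k) * t = t * d * (t * t) * k * t := by rw [hS.mul_self]; group
      _ = d * (d⁻¹ * (t * d * t)) * (t * k * t) := by group
      _ = d * (k * k) * k⁻¹ := by rw [← hw, hkt, hkk]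
      _ = d * k := by group
  refine ⟨d * k, Subgroup.mem_inf.2 ⟨mul_mem hdD (pow_mem hwD _), Subgroup.mem_centralizer_singleton_iff.2 hvt.symm⟩,
    Set.image_congr fun x hx => ?_⟩
  have h1 : k * x = x * k := ((hwx x hx).pow_left (m + 1)).eq
  calc d * k * x * (d * k)⁻¹ = d * (k * x) * k⁻¹ * d⁻¹ := by group
    _ = d * x * d⁻¹ := by rw [h1]; group
    _ = g * x * g⁻¹ := hdx x hx

end CfsgLib.Lie.RankOne
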